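import Cfsg.Agent.Lib.Co2Type.Code.Card
import Cfsg.Agent.Lib.Chevalley.Types.CoxE6

/-!
The part of the code group over the six automorphisms of the diagram `E₆` has order at most `2^9 · 51840`.
-/

set_option autoImplicit false
set_option linter.style.haveILetI false

namespace Cfsg.Agent.Co2Type.Cert

open Code

/-- The node of the diagram for a node of `E₆`. -/
def node6 : Fin 6 → Fin 7 := ![0, 6, 1, 2, 3, 4]

theorem check_e6 : ∀ i j : Fin 6, Nat.iterate (fun v => (v.map (appL (autImg (node6 j)))).map (appL (autImg (node6 i))))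
    (CoxeterMatrix.E₆ i j) stdImg = stdImg := by
  decide +kernel

theorem imgs_pow (a b : Fin 7) : ∀ m, imgs ((autA a * autA b) ^ m) =
    Nat.iterate (fun v => (v.map (appL (autImg b))).map (appL (autImg a))) m stdImg
  | 0 => by rw [pow_zero]; exact imgs_one'
  | m + 1 => by
    rw [pow_succ', Function.iterate_succ_apply', mul_assoc, imgs_autA_mul, imgs_autA_mul, imgs_pow a b m]

theorem liftable : (CoxeterMatrix.E₆).IsLiftable fun i => autA (node6 i) := fun i j =>
  imgs_injective (by rw [imgs_pow, check_e6, imgs_one'])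

/-- The group of the six automorphisms. -/
noncomputable def W6 : Subgroup (MulAut Q8) :=
  ((CoxeterMatrix.E₆).toCoxeterSystem.lift ⟨_, liftable⟩).range

theorem finite_card_W6 : Finite W6 ∧ Nat.card W6 ≤ 51840 := by
  have hcard : Nat.card (CoxeterMatrix.E₆).Group = 51840 := Chevalley.Types.CoxE6.card_eq
  haveI : Finite (CoxeterMatrix.E₆).Group := Nat.finite_of_card_ne_zero (by rw [hcard]; norm_num)
  let π := (CoxeterMatrix.E₆).toCoxeterSystem.lift ⟨_, liftable⟩
  exact ⟨Finite.of_surjective _ π.rangeRestrict_surjective,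
    (Nat.card_le_card_of_surjective _ π.rangeRestrict_surjective).trans hcard.le⟩

/-- The elements whose automorphism lies in that group. -/
noncomputable def X0 : Subgroup C0 := (W6.subgroupOf W).comap SemidirectProduct.rightHom

theorem finite_card_X0 : Finite X0 ∧ Nat.card X0 ≤ 512 * 51840 := by
  obtain ⟨hf, hle⟩ := finite_card_W6
  haveI := hf
  haveI : Finite Q8 := Nat.finite_of_card_ne_zero (by rw [card_Q8]; norm_num)
  let f : X0 → Q8 × W6 := fun x => ((x : C0).left, ⟨((x : C0).right : MulAut Q8), x.2⟩)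
  have hinj : Function.Injective f := fun x y e => by
    obtain ⟨e1, e2⟩ := Prod.ext_iff.1 e
    exact Subtype.ext (SemidirectProduct.ext e1 (Subtype.ext (congrArg (fun a : W6 => (a : MulAut Q8)) e2)))
  refine ⟨Finite.of_injective f hinj, (Nat.card_le_card_of_injective f hinj).trans ?_⟩
  rw [Nat.card_prod, card_Q8]
  exact Nat.mul_le_mul_left _ hle

theorem genC_mem_X0 (z : Fin 15) (h : z.val ≠ 13) : genC z ∈ X0 := by
  show ((genC z).right : MulAut Q8) ∈ W6
  unfold genC
  split
  · exact one_mem _
  · rename_i h8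
    obtain ⟨i, hi⟩ : ∃ i : Fin 6, node6 i = ⟨z.val - 8, by omega⟩ :=
      (by decide : ∀ k : Fin 7, k.val ≠ 5 → ∃ i : Fin 6, node6 i = k) ⟨z.val - 8, by omega⟩
        (by show z.val - 8 ≠ 5; omega)
    rw [SemidirectProduct.right_inr]
    exact ⟨(CoxeterMatrix.E₆).toCoxeterSystem.simple i,
      (CoxeterSystem.lift_apply_simple _ liftable i).trans (congrArg autA hi)⟩

end Cfsg.Agent.Co2Type.Cert
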