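import Cfsg.Agent.Lib.Co2Type.Cert.GData

/-!
# Check of a coset certificate, a part
-/

set_option autoImplicit false
set_option linter.all false
set_option maxRecDepth 100000

namespace Cfsg.Agent.Co2Type.Cert.G

open Cfsg.Agent.CosetCert
theorem steps8 : rangeOK cert 8000 1000 = true := by decide +kernel

theorem steps9 : rangeOK cert 9000 1000 = true := by decide +kernel

theorem steps10 : rangeOK cert 10000 1000 = true := by decide +kernel

theorem steps11 : rangeOK cert 11000 1000 = true := by decide +kernel

theorem steps12 : rangeOK cert 12000 1000 = true := by decide +kernel

theorem steps13 : rangeOK cert 13000 1000 = true := by decide +kernel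

theorem steps14 : rangeOK cert 14000 1000 = true := by decide +kernel

theorem steps15 : rangeOK cert 15000 1000 = true := by decide +kernel

end Cfsg.Agent.Co2Type.Cert.G
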