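import Cfsg.Agent.Lib.Co2Type.Cert.GSteps0
import Cfsg.Agent.Lib.Co2Type.Cert.GSteps1
import Cfsg.Agent.Lib.Co2Type.Cert.GSteps2
import Cfsg.Agent.Lib.Co2Type.Cert.GSteps3
import Cfsg.Agent.Lib.Co2Type.Cert.GSteps4
import Cfsg.Agent.Lib.Co2Type.Cert.GSteps5
import Cfsg.Agent.Lib.Co2Type.Cert.GSteps6
import Cfsg.Agent.Lib.CosetCert.Cox

/-!
# The certificate closes
-/

set_option autoImplicit false
set_option linter.all false
set_option maxRecDepth 100000

namespace Cfsg.Agent.Co2Type.Cert.G

open Cfsg.Agent.CosetCert

theorem upto0 : ∀ i < 1000, stepOK cert i = true :=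
  steps_add 0 1000 (steps_zero cert) steps0

theorem upto1 : ∀ i < 2000, stepOK cert i = true :=
  steps_add 1000 1000 (upto0) steps1

theorem upto2 : ∀ i < 3000, stepOK cert i = true :=
  steps_add 2000 1000 (upto1) steps2

theorem upto3 : ∀ i < 4000, stepOK cert i = true :=
  steps_add 3000 1000 (upto2) steps3

theorem upto4 : ∀ i < 5000, stepOK cert i = true :=
  steps_add 4000 1000 (upto3) steps4

theorem upto5 : ∀ i < 6000, stepOK cert i = true :=
  steps_add 5000 1000 (upto4) steps5

theorem upto6 : ∀ i < 7000, stepOK cert i = true :=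
  steps_add 6000 1000 (upto5) steps6

theorem upto7 : ∀ i < 8000, stepOK cert i = true :=
  steps_add 7000 1000 (upto6) steps7

theorem upto8 : ∀ i < 9000, stepOK cert i = true :=
  steps_add 8000 1000 (upto7) steps8

theorem upto9 : ∀ i < 10000, stepOK cert i = true :=
  steps_add 9000 1000 (upto8) steps9

theorem upto10 : ∀ i < 11000, stepOK cert i = true :=
  steps_add 10000 1000 (upto9) steps10

theorem upto11 : ∀ i < 12000, stepOK cert i = true :=
  steps_add 11000 1000 (upto10) steps11

theorem upto12 : ∀ i < 13000, stepOK cert i = true :=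
  steps_add 12000 1000 (upto11) steps12

theorem upto13 : ∀ i < 14000, stepOK cert i = true :=
  steps_add 13000 1000 (upto12) steps13

theorem upto14 : ∀ i < 15000, stepOK cert i = true :=
  steps_add 14000 1000 (upto13) steps14

theorem upto15 : ∀ i < 16000, stepOK cert i = true :=
  steps_add 15000 1000 (upto14) steps15

theorem upto16 : ∀ i < 17000, stepOK cert i = true :=
  steps_add 16000 1000 (upto15) steps16

theorem upto17 : ∀ i < 18000, stepOK cert i = true :=
  steps_add 17000 1000 (upto16) steps17

theorem upto18 : ∀ i < 19000, stepOK cert i = true :=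
  steps_add 18000 1000 (upto17) steps18

theorem upto19 : ∀ i < 20000, stepOK cert i = true :=
  steps_add 19000 1000 (upto18) steps19

theorem upto20 : ∀ i < 21000, stepOK cert i = true :=
  steps_add 20000 1000 (upto19) steps20

theorem upto21 : ∀ i < 22000, stepOK cert i = true :=
  steps_add 21000 1000 (upto20) steps21

theorem upto22 : ∀ i < 23000, stepOK cert i = true :=
  steps_add 22000 1000 (upto21) steps22

theorem upto23 : ∀ i < 24000, stepOK cert i = true :=
  steps_add 23000 1000 (upto22) steps23

theorem upto24 : ∀ i < 25000, stepOK cert i = true :=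
  steps_add 24000 1000 (upto23) steps24

theorem upto25 : ∀ i < 26000, stepOK cert i = true :=
  steps_add 25000 1000 (upto24) steps25

theorem upto26 : ∀ i < 27000, stepOK cert i = true :=
  steps_add 26000 1000 (upto25) steps26

theorem upto27 : ∀ i < 28000, stepOK cert i = true :=
  steps_add 27000 1000 (upto26) steps27

theorem upto28 : ∀ i < 29000, stepOK cert i = true :=
  steps_add 28000 1000 (upto27) steps28

theorem upto29 : ∀ i < 30000, stepOK cert i = true :=
  steps_add 29000 1000 (upto28) steps29

theorem upto30 : ∀ i < 31000, stepOK cert i = true :=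
  steps_add 30000 1000 (upto29) steps30

theorem upto31 : ∀ i < 32000, stepOK cert i = true :=
  steps_add 31000 1000 (upto30) steps31

theorem upto32 : ∀ i < 33000, stepOK cert i = true :=
  steps_add 32000 1000 (upto31) steps32

theorem upto33 : ∀ i < 34000, stepOK cert i = true :=
  steps_add 33000 1000 (upto32) steps33

theorem upto34 : ∀ i < 35000, stepOK cert i = true :=
  steps_add 34000 1000 (upto33) steps34

theorem upto35 : ∀ i < 36000, stepOK cert i = true :=
  steps_add 35000 1000 (upto34) steps35

theorem upto36 : ∀ i < 37000, stepOK cert i = true :=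
  steps_add 36000 1000 (upto35) steps36

theorem upto37 : ∀ i < 38000, stepOK cert i = true :=
  steps_add 37000 1000 (upto36) steps37

theorem upto38 : ∀ i < 39000, stepOK cert i = true :=
  steps_add 38000 1000 (upto37) steps38

theorem upto39 : ∀ i < 40000, stepOK cert i = true :=
  steps_add 39000 1000 (upto38) steps39

theorem upto40 : ∀ i < 41000, stepOK cert i = true :=
  steps_add 40000 1000 (upto39) steps40

theorem upto41 : ∀ i < 42000, stepOK cert i = true :=
  steps_add 41000 1000 (upto40) steps41

theorem upto42 : ∀ i < 43000, stepOK cert i = true :=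
  steps_add 42000 1000 (upto41) steps42

theorem upto43 : ∀ i < 44000, stepOK cert i = true :=
  steps_add 43000 1000 (upto42) steps43

theorem upto44 : ∀ i < 45000, stepOK cert i = true :=
  steps_add 44000 1000 (upto43) steps44

theorem upto45 : ∀ i < 46000, stepOK cert i = true :=
  steps_add 45000 1000 (upto44) steps45

theorem upto46 : ∀ i < 47000, stepOK cert i = true :=
  steps_add 46000 1000 (upto45) steps46

theorem upto47 : ∀ i < 48000, stepOK cert i = true :=
  steps_add 47000 1000 (upto46) steps47

theorem upto48 : ∀ i < 48048, stepOK cert i = true :=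
  steps_add 48000 48 (upto47) steps48

theorem edges0 : edgesOK table edgeTree 0 500 = true := by decide +kernel

theorem edgesUpto0 : ∀ i < 500, ∀ x < table.C.K, EdgeAt table i x :=
  edges_add 0 500 (edges_zero table) edges0

theorem edges1 : edgesOK table edgeTree 500 500 = true := by decide +kernel

theorem edgesUpto1 : ∀ i < 1000, ∀ x < table.C.K, EdgeAt table i x :=
  edges_add 500 500 (edgesUpto0) edges1

theorem edges2 : edgesOK table edgeTree 1000 500 = true := by decide +kernel

theorem edgesUpto2 : ∀ i < 1500, ∀ x < table.C.K, EdgeAt table i x :=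
  edges_add 1000 500 (edgesUpto1) edges2

theorem edges3 : edgesOK table edgeTree 1500 500 = true := by decide +kernel

theorem edgesUpto3 : ∀ i < 2000, ∀ x < table.C.K, EdgeAt table i x :=
  edges_add 1500 500 (edgesUpto2) edges3

theorem edges4 : edgesOK table edgeTree 2000 300 = true := by decide +kernel

theorem edgesUpto4 : ∀ i < 2300, ∀ x < table.C.K, EdgeAt table i x :=
  edges_add 2000 300 (edgesUpto3) edges4

theorem closed : Closed table where
  start := by decide +kernel
  steps := upto48
  cells := edgesUpto4
  root := by decide +kernel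
  pos := by decide +kernel

end Cfsg.Agent.Co2Type.Cert.G
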