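import Cfsg.Agent.Lib.Co2Type.Cert.HSteps0
import Cfsg.Agent.Lib.Co2Type.Cert.HSteps1
import Cfsg.Agent.Lib.CosetCert.Cox

/-!
# The certificate closes
-/

set_option autoImplicit false
set_option linter.all false
set_option maxRecDepth 100000

namespace Cfsg.Agent.Co2Type.Cert.H

open Cfsg.Agent.CosetCert

theorem upto0 : ∀ i < 1000, stepOK cert i = true :=
  steps_add 0 1000 (steps_zero cert) steps0

theorem upto1 : ∀ i < 2000, stepOK cert i = true :=
  steps_add 1000 1000 (upto0) steps1

theorem upto2 : ∀ i < 3000, stepOK cert i = true :=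
  steps_add 2000 1000 (upto1) steps2

theorem upto3 : ∀ i < 4000, stepOK cert i = true :=
  steps_add 3000 1000 (upto2) steps3

theorem upto4 : ∀ i < 5000, stepOK cert i = true :=
  steps_add 4000 1000 (upto3) steps4

theorem upto5 : ∀ i < 6000, stepOK cert i = true :=
  steps_add 5000 1000 (upto4) steps5

theorem upto6 : ∀ i < 7000, stepOK cert i = true :=
  steps_add 6000 1000 (upto5) steps6

theorem upto7 : ∀ i < 8000, stepOK cert i = true :=
  steps_add 7000 1000 (upto6) steps7

theorem upto8 : ∀ i < 9000, stepOK cert i = true :=
  steps_add 8000 1000 (upto7) steps8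

theorem upto9 : ∀ i < 10000, stepOK cert i = true :=
  steps_add 9000 1000 (upto8) steps9

theorem upto10 : ∀ i < 11000, stepOK cert i = true :=
  steps_add 10000 1000 (upto9) steps10

theorem upto11 : ∀ i < 11304, stepOK cert i = true :=
  steps_add 11000 304 (upto10) steps11

theorem edges0 : edgesOK table edgeTree 0 500 = true := by decide +kernel

theorem edgesUpto0 : ∀ i < 500, ∀ x < table.C.K, EdgeAt table i x :=
  edges_add 0 500 (edges_zero table) edges0

theorem edges1 : edgesOK table edgeTree 500 193 = true := by decide +kernel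

theorem edgesUpto1 : ∀ i < 693, ∀ x < table.C.K, EdgeAt table i x :=
  edges_add 500 193 (edgesUpto0) edges1

theorem closed : Closed table where
  start := by decide +kernel
  steps := upto11
  cells := edgesUpto1
  root := by decide +kernel
  pos := by decide +kernel

end Cfsg.Agent.Co2Type.Cert.H
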