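import Cfsg.Agent.Lib.Co2Type.Cert.Letters
import Cfsg.Agent.Lib.Co2Type.Cert.Bound
import Cfsg.Agent.Lib.Co2Type.Cert.GCheck
import Cfsg.Agent.Lib.Co2Type.Cert.HCheck
import Cfsg.Agent.Lib.CosetCert.Finish

/-!
Two frames with the triangle relation: the second group, when it has the order of the second Conway group,
maps into the first.
-/

set_option autoImplicit false
set_option linter.style.haveILetI false
set_option maxRecDepth 10000

namespace Cfsg.Agent.Co2Type.Cert

open Cfsg.Agent.CosetCert Code

theorem wordsG : G.words.all wordOK = true := by decide +kernel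

/-- The letters of the second stage. -/
def topH : List ℕ := [0, 1, 2, 3, 4, 5, 6, 7, 8, 9, 10, 11, 13, 14]

theorem wordsH : H.words.all (fun w => wordOK (mapWord topH w)) = true := by decide +kernel

theorem lettersWG : allLettersOK 15 G.words = true := by decide +kernel

theorem lettersSG : allLettersOK 15 G.subs = true := by decide +kernel

theorem lettersWH : allLettersOK 14 H.words = true := by decide +kernel

theorem lettersSH : allLettersOK 14 H.subs = true := by decide +kernel

theorem card_product : G.table.n * (H.table.n * (512 * 51840)) = 42305421312000 := rfl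

variable {K : Type*} [Group K]

/-- A group generated by the code group and the swap, with the relations, has order at most that of the second
Conway group. -/
theorem bdd_top (φ : C0 →* K) {n : K} (hn : n * n = 1) (hp : ∀ p ∈ pairs, n * φ p.1 * n = φ p.2)
    (ht : n * φ (el triW) * (n * φ (el triW)) * (n * φ (el triW)) = 1) :
    Bdd (Subgroup.closure (gl φ n '' {z | z < 15})) 42305421312000 := by
  have hsq := gl_sq φ hn
  let gH : ℕ → K := fun z => if z < 14 then gl φ n (nthNat topH z) else 1
  have hgH : ∀ z, gH z * gH z = 1 := fun z => by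
    simp only [gH]; split
    · exact hsq _
    · exact one_mul 1
  have hWG : ∀ w ∈ G.table.C.W, wprod (gl φ n) w = 1 := fun w hw =>
    wprod_wordOK φ hn hp ht w (List.all_eq_true.1 wordsG w hw)
  have hmapH : ∀ w : List ℕ, (∀ y ∈ w, y < 14) → wprod gH w = wprod (gl φ n) (mapWord topH w) := by
    intro w
    induction w with
    | nil => intro _; rfl
    | cons y w ih =>
      intro hy
      rw [mapWord, wprod, wprod, ih fun z hz => hy z (List.mem_cons_of_mem _ hz)]
      simp only [gH, if_pos (hy y List.mem_cons_self)]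
  have hWH : ∀ w ∈ H.table.C.W, wprod gH w = 1 := fun w hw => by
    rw [hmapH w (allLettersOK_spec lettersWH w hw)]
    exact wprod_wordOK φ hn hp ht _ (List.all_eq_true.1 wordsH w hw)
  haveI := finite_card_X0.1
  have hX : Bdd (Subgroup.closure (wprod gH '' {w | w ∈ H.table.C.S})) (512 * 51840) := by
    have hle : Subgroup.closure (wprod gH '' {w | w ∈ H.table.C.S}) ≤ X0.map φ := by
      rw [Subgroup.closure_le]
      rintro _ ⟨w, hw, rfl⟩
      obtain ⟨z, hz, rfl⟩ : ∃ z, z < 13 ∧ [z] = w :=
        (by decide +kernel : ∀ w ∈ H.subs, ∃ z, z < 13 ∧ [z] = w) w hw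
      rw [hmapH _ (by simp; omega)]
      obtain ⟨h1, h2⟩ := (by decide : ∀ z, z < 13 → nthNat topH z < 14 ∧ (old (nthNat topH z)).val ≠ 13) z hz
      rw [mapWord, mapWord, wprod_single, gl, if_pos h1]
      exact Subgroup.mem_map_of_mem _ (genC_mem_X0 _ h2)
    haveI : Finite (X0.map φ) := Finite.of_surjective _ (φ.subgroupMap_surjective X0)
    exact ⟨Finite.of_injective _ (Subgroup.inclusion_injective hle), (Subgroup.card_le_of_le hle).trans
      ((Nat.card_le_card_of_surjective _ (φ.subgroupMap_surjective X0)).trans finite_card_X0.2)⟩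
  have hH := Bdd.step H.closed gH hgH hWH lettersSH rfl rfl lettersWH hX
  have htop : Subgroup.closure (wprod (gl φ n) '' {w | w ∈ G.table.C.S}) =
      Subgroup.closure (gH '' {z | z < H.table.C.K}) := by
    congr 1
    have e : G.subs = topH.map fun z => [z] := rfl
    have e' : ∀ z, z < 14 → nthNat topH z ∈ topH := by decide
    have e'' : ∀ t ∈ topH, ∃ z, z < 14 ∧ nthNat topH z = t := by decide
    ext x
    constructor
    · rintro ⟨w, hw, rfl⟩
      have hw' : w ∈ G.subs := hw
      rw [e] at hw'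
      obtain ⟨t, ht', rfl⟩ := List.mem_map.1 hw'
      obtain ⟨z, hz, rfl⟩ := e'' t ht'
      exact ⟨z, hz, by simp [gH, hz, wprod_single]⟩
    · rintro ⟨z, hz, rfl⟩
      have hz' : z < 14 := hz
      have hm : [nthNat topH z] ∈ G.subs := by rw [e]; exact List.mem_map.2 ⟨_, e' z hz', rfl⟩
      exact ⟨[nthNat topH z], hm, by simp [gH, hz', wprod_single]⟩
  have hG := Bdd.step G.closed (gl φ n) hsq hWG lettersSG
    (top := Subgroup.closure (gl φ n '' {z | z < 15})) rfl htop.symm lettersWG hH
  exact hG.mono card_product.le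

theorem tri_of_squares {E : Type*} [Group E] (F : Frame C0 Code.tau alpha pairs E) (hF : F.Squares triRel) :
    F.n * F.φ (el triW) * (F.n * F.φ (el triW)) * (F.n * F.φ (el triW)) = 1 := by
  have := hF ([1, el triW, el triW, el triW], 1) List.mem_cons_self
  simp only [Frame.ev, map_one, one_mul] at this
  rw [← this]
  simp only [mul_assoc]

variable {G₁ G₂ : Type*} [Group G₁] [Group G₂] [IsSimpleGroup G₂]

/-- The recognition: the second group maps into the first. -/
theorem exists_injective_hom (F : Frame C0 Code.tau alpha pairs G₁) (F₂ : Frame C0 Code.tau alpha pairs G₂)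
    (hF : F.Squares triRel) (hF₂ : F₂.Squares triRel) (hcard : Nat.card G₂ = 42305421312000)
    (hgen : Subgroup.closure (insert F₂.n (Set.range F₂.φ)) = ⊤) :
    ∃ f : G₂ →* G₁, Function.Injective f ∧ f.comp F₂.φ = F.φ ∧ f F₂.n = F.n := by
  let φp : C0 →* G₁ × G₂ := F.φ.prod F₂.φ
  let np : G₁ × G₂ := (F.n, F₂.n)
  have hsq : np * np = 1 := Prod.ext F.n_sq F₂.n_sq
  have hp : ∀ p ∈ pairs, np * φp p.1 * np = φp p.2 := fun p hp => Prod.ext (F.n_act p hp) (F₂.n_act p hp)
  have ht : np * φp (el triW) * (np * φp (el triW)) * (np * φp (el triW)) = 1 :=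
    Prod.ext (tri_of_squares F hF) (tri_of_squares F₂ hF₂)
  obtain ⟨hfin, hle⟩ := bdd_top φp hsq hp ht
  let P := Subgroup.closure (gl φp np '' {z | z < 15})
  haveI : Finite P := hfin
  haveI : Finite G₂ := Nat.finite_of_card_ne_zero (by rw [hcard]; norm_num)
  have hlet : ∀ z, z < 15 → gl φp np z ∈ P := fun z hz => Subgroup.subset_closure ⟨z, hz, rfl⟩
  have hn : np ∈ P := by simpa [gl] using hlet 14 (by norm_num)
  have hφ : φp.range ≤ P := by
    rw [MonoidHom.range_eq_map, ← closure_genC, MonoidHom.map_closure, Subgroup.closure_le]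
    rintro _ ⟨_, ⟨y, rfl⟩, rfl⟩
    have hl : ∀ z, z < 14 → φp (genC (old z)) ∈ P := fun z hz => by
      have := hlet z (by omega)
      rwa [gl, if_pos hz] at this
    rcases (by decide : ∀ y : Fin 15, y = 7 ∨ ∃ z, z < 14 ∧ old z = y) y with rfl | ⟨z, hz, rfl⟩
    · have e : el [3, 8, 3, 8] = genC 7 := (el_of_cw (v := [3, 8, 3, 8]) (w := [7]) (by decide +kernel)).trans
        (by simp [el])
      have hw : el [3, 8, 3, 8] = genC (old 3) * genC (old 7) * genC (old 3) * genC (old 7) := by
        simp [el, old, mul_assoc]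
      rw [← e, hw, map_mul, map_mul, map_mul]
      exact mul_mem (mul_mem (mul_mem (hl 3 (by norm_num)) (hl 7 (by norm_num))) (hl 3 (by norm_num)))
        (hl 7 (by norm_num))
    · exact hl z hz
  let r : P →* G₂ := (MonoidHom.snd G₁ G₂).comp P.subtype
  have hsurj : Function.Surjective r := by
    rw [← MonoidHom.range_eq_top, ← top_le_iff, ← hgen, Subgroup.closure_le]
    rintro _ (rfl | ⟨x, rfl⟩)
    · exact ⟨⟨np, hn⟩, rfl⟩
    · exact ⟨⟨φp x, hφ ⟨x, rfl⟩⟩, rfl⟩
  have hbij : Function.Bijective r := (Nat.bijective_iff_surjective_and_card r).2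
    ⟨hsurj, le_antisymm (hle.trans hcard.ge) (Nat.card_le_card_of_surjective r hsurj)⟩
  let e : P ≃* G₂ := MulEquiv.ofBijective r hbij
  let f : G₂ →* G₁ := ((MonoidHom.fst G₁ G₂).comp P.subtype).comp e.symm.toMonoidHom
  have hf : ∀ p : P, f (r p) = (p : G₁ × G₂).1 := fun p => by
    show ((e.symm (e p) : P) : G₁ × G₂).1 = _
    rw [e.symm_apply_apply]
  have hfφ : ∀ x, f (F₂.φ x) = F.φ x := fun x => hf ⟨φp x, hφ ⟨x, rfl⟩⟩
  refine ⟨f, ?_, MonoidHom.ext hfφ, hf ⟨np, hn⟩⟩
  rcases f.normal_ker.eq_bot_or_eq_top with h | h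
  · exact (MonoidHom.ker_eq_bot_iff f).1 h
  · have h1 : Code.tau = 1 := F.inj (by rw [map_one, ← hfφ]; exact MonoidHom.mem_ker.1 (h ▸ Subgroup.mem_top _))
    exact absurd h1 fun e1 => el_ne_of_cw (v := tauW) (w := []) (by decide +kernel) e1

end Cfsg.Agent.Co2Type.Cert
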