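import Cfsg.Agent.Lib.Co2Type.Code.Fast
import Cfsg.Agent.Lib.Co2Type.Code.Points
import Cfsg.Agent.Lib.CosetCert.Order

/-!
The letters of the coset certificates and their relations in any group with a frame.
-/

set_option autoImplicit false

namespace Cfsg.Agent.Co2Type.Cert

open Cfsg.Agent.CosetCert Code

/-- The generators of the code group used as letters: all but the last coordinate. -/
def old (z : ℕ) : Fin 15 :=
  ([0, 1, 2, 3, 4, 5, 6, 8, 9, 10, 11, 12, 13, 14] : List (Fin 15)).getD z 0

/-- The word of generators of a word of letters. -/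
def back (w : List ℕ) : List (Fin 15) := w.reverse.map old

/-- The fourteen letters of the code group, without the swap. -/
def plain (w : List ℕ) : Bool := w.all fun z => Nat.blt z 14

variable {K : Type*} [Group K]

/-- The letters. -/
noncomputable def gl (φ : C0 →* K) (n : K) (z : ℕ) : K :=
  if z < 14 then φ (genC (old z)) else if z = 14 then n else 1

theorem gl_sq (φ : C0 →* K) {n : K} (hn : n * n = 1) (z : ℕ) : gl φ n z * gl φ n z = 1 := by
  unfold gl
  split
  · rw [← map_mul, genC_sq, map_one]
  · split
    · exact hn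
    · exact one_mul 1

theorem wprod_append (g : ℕ → K) : ∀ u v : List ℕ, wprod g (u ++ v) = wprod g v * wprod g u
  | [], v => by rw [List.nil_append]; exact (mul_one _).symm
  | y :: u, v => by rw [List.cons_append, wprod, wprod, wprod_append g u v, mul_assoc]

theorem wprod_single (g : ℕ → K) (z : ℕ) : wprod g [z] = g z := by
  simp [wprod]

theorem wprod_plain (φ : C0 →* K) (n : K) :
    ∀ w : List ℕ, plain w = true → wprod (gl φ n) w = φ (el (back w))
  | [], _ => (map_one φ).symm
  | y :: w, h => by
    simp only [plain, List.all_cons, Bool.and_eq_true, Nat.blt_eq] at h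
    have e : back (y :: w) = back w ++ [old y] := by simp [back]
    rw [wprod, wprod_plain φ n w h.2, e, el_append, map_mul, gl, if_pos h.1]
    simp [el]

/-- The letters of the word of the triangle. -/
def triLetters : List ℕ := [7, 3, 7, 3, 7, 5, 0]

/-- A pair of the swap as a relation. -/
noncomputable def pairOK (w : List ℕ) (p : List (Fin 15) × List (Fin 15)) : Bool :=
  let A := w.takeWhile fun z => Nat.blt z 14
  let B := ((w.dropWhile fun z => Nat.blt z 14).drop 1).takeWhile fun z => Nat.blt z 14
  decide (w = A ++ [14] ++ B ++ [14]) && plain A && plain B && beqC (cw (back B)) (cw p.1) &&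
    beqC (cw (back A ++ p.2)) (cw [])

/-- A word of the certificates holds for every frame with the triangle relation. -/
noncomputable def wordOK (w : List ℕ) : Bool :=
  (plain w && beqC (cw (back w)) (cw [])) || decide (w = [14, 14]) ||
    (decide (w = triLetters ++ [14] ++ (triLetters ++ [14]) ++ (triLetters ++ [14])) &&
      beqC (cw (back triLetters)) (cw triW) && plain triLetters) ||
    pairsW.any (pairOK w)

theorem wprod_wordOK (φ : C0 →* K) {n : K} (hn : n * n = 1) (hp : ∀ p ∈ pairs, n * φ p.1 * n = φ p.2)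
    (ht : n * φ (el triW) * (n * φ (el triW)) * (n * φ (el triW)) = 1) (w : List ℕ) (h : wordOK w = true) :
    wprod (gl φ n) w = 1 := by
  have h14 : gl φ n 14 = n := by simp [gl]
  simp only [wordOK, Bool.or_eq_true, Bool.and_eq_true, decide_eq_true_eq, List.any_eq_true] at h
  rcases h with ((⟨h1, h2⟩ | rfl) | ⟨⟨rfl, h2⟩, h3⟩) | ⟨p, hp', h4⟩
  · rw [wprod_plain φ n w h1, el_of_cw h2, el_nil, map_one]
  · simp [wprod, h14, hn]
  · simp only [wprod_append, wprod_single, h14, wprod_plain φ n _ h3, el_of_cw h2]
    rw [← ht]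
    simp only [mul_assoc]
  · simp only [pairOK, Bool.and_eq_true, decide_eq_true_eq] at h4
    obtain ⟨⟨⟨⟨e, hA⟩, hB⟩, h5⟩, h6⟩ := h4
    have hm : (el p.1, el p.2) ∈ pairs := List.mem_map.2 ⟨p, hp', rfl⟩
    have h7 := el_of_cw h6
    rw [el_append, el_nil] at h7
    rw [e, wprod_append, wprod_append, wprod_append, wprod_single, h14, wprod_plain φ n _ hA,
      wprod_plain φ n _ hB, el_of_cw h5, ← mul_assoc (φ (el p.1)), ← mul_assoc, ← mul_assoc, hp _ hm,
      ← map_mul, mul_eq_one_comm.1 h7, map_one]

/-- The letters generate the code group. -/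
theorem closure_genC : Subgroup.closure (Set.range genC) = (⊤ : Subgroup C0) := by
  refine top_le_iff.1 fun x _ => ?_
  have hinl : ∀ a : Q8, (SemidirectProduct.inl a : C0) ∈ Subgroup.closure (Set.range genC) := by
    refine q8_induction (by rw [map_one]; exact one_mem _) fun a e he ih => ?_
    rw [map_mul]
    refine mul_mem ih ?_
    rcases List.mem_cons.1 he with rfl | he
    · have h : (SemidirectProduct.inl (⟨256, gen_lt _ List.mem_cons_self⟩ : Q8) : C0) = el [0, 7, 0, 7] :=
        code_injective ((by decide +kernel : ((256, stdImg) : ℕ × List ℕ) = codeW [0, 7, 0, 7]).trans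
          (code_el _).symm)
      rw [h, el]
      exact list_prod_mem fun z hz => by
        obtain ⟨i, -, rfl⟩ := List.mem_map.1 hz
        exact Subgroup.subset_closure ⟨i, rfl⟩
    · obtain ⟨i, hi⟩ : ∃ i : Fin 8, 2 ^ i.val = e := (by decide : ∀ e ∈ stdImg, ∃ i : Fin 8, 2 ^ i.val = e) e he
      refine Subgroup.subset_closure ⟨⟨i.val, by omega⟩, ?_⟩
      rw [genC, dif_pos (show (⟨i.val, _⟩ : Fin 15).val < 8 from i.isLt)]
      exact congrArg _ (Q8.ext hi)
  have hinr : ∀ φ (hφ : φ ∈ W), (SemidirectProduct.inr ⟨φ, hφ⟩ : C0) ∈ Subgroup.closure (Set.range genC) := by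
    intro φ hφ
    induction hφ using Subgroup.closure_induction with
    | mem y hy =>
      obtain ⟨k, rfl⟩ := hy
      refine Subgroup.subset_closure ⟨⟨k.val + 8, by omega⟩, ?_⟩
      rw [genC, dif_neg (show ¬ (⟨k.val + 8, _⟩ : Fin 15).val < 8 by simp)]
      rfl
    | one => exact (map_one (SemidirectProduct.inr : W →* C0)).symm ▸ one_mem _
    | mul a b ha hb h₁ h₂ =>
      have := mul_mem h₁ h₂
      rwa [← map_mul] at this
    | inv a ha h =>
      have := inv_mem h
      rwa [← map_inv] at this
  rw [← SemidirectProduct.inl_left_mul_inr_right x]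
  exact mul_mem (hinl _) (hinr _ x.right.2)

end Cfsg.Agent.Co2Type.Cert
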